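import Mathlib
import Cfsg.Agent.Lib.Helper16.T74Defs
import Cfsg.Agent.Lib.Helper16.T75Defs
import Cfsg.Agent.Lib.T74.T74EMBF

/-!
# T75-KERF (helper22): an index-2 subgroup of `A` missing `e`
-/

namespace Cfsg.Agent.Helper16.T75

open scoped commutatorElement
open Subgroup

theorem t75_kerf_card_mult_zmod2 : Nat.card (Multiplicative (ZMod 2)) = 2 := by
  rw [Nat.card_eq_fintype_card, Fintype.card_multiplicative, ZMod.card]

/-- T75-KERF -/
theorem exists_index_two {G : Type*} [Group G] [Finite G] (A H : Subgroup G) (hHA : H ≤ A)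
    (hHn : ∀ a ∈ A, ∀ k ∈ H, a * k * a⁻¹ ∈ H) (hsq : ∀ a ∈ A, a ^ 2 ∈ H)
    (hcomm : ∀ u ∈ A, ∀ v ∈ A, ⁅u, v⁆ ∈ H) (e : G) (heA : e ∈ A) (heH : e ∉ H) :
    ∃ U : Subgroup G, U ≤ A ∧ e ∉ U ∧ Nat.card ↥A = 2 * Nat.card ↥U := by
  obtain ⟨f, hadd, hker, hfe⟩ := T74.exists_functional A H hHA hHn hsq hcomm e heA heH
  have hf1 : f 1 = 0 := hker 1 H.one_mem
  let φ : ↥A →* Multiplicative (ZMod 2) :=
    { toFun := fun a => Multiplicative.ofAdd (f a.1)
      map_one' := by
        change Multiplicative.ofAdd (f 1) = 1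
        rw [hf1]; rfl
      map_mul' := fun a b => by
        change Multiplicative.ofAdd (f (a.1 * b.1)) = _
        rw [hadd a.1 a.2 b.1 b.2]; rfl }
  have hφ : ∀ a : ↥A, φ a = Multiplicative.ofAdd (f a.1) := fun _ => rfl
  have hsurj : Function.Surjective φ := by
    intro x
    have hx : Multiplicative.toAdd x = 0 ∨ Multiplicative.toAdd x = 1 := by
      generalize Multiplicative.toAdd x = y
      revert y; decide
    rcases hx with hx | hx
    · refine ⟨1, ?_⟩
      rw [map_one]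
      have : x = Multiplicative.ofAdd (Multiplicative.toAdd x) := rfl
      rw [this, hx]; rfl
    · refine ⟨⟨e, heA⟩, ?_⟩
      rw [hφ]
      have : x = Multiplicative.ofAdd (Multiplicative.toAdd x) := rfl
      rw [this, hx]
      change Multiplicative.ofAdd (f e) = _
      rw [hfe]
  refine ⟨φ.ker.map A.subtype, Subgroup.map_subtype_le _, ?_, ?_⟩
  · rintro ⟨⟨x, hx⟩, hxk, hxe⟩
    have hxe' : x = e := hxe
    subst hxe'
    have h1 : φ ⟨x, hx⟩ = 1 := hxk
    rw [hφ] at h1
    have h2 : f x = 0 := h1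
    rw [hfe] at h2
    exact one_ne_zero h2
  · have hc1 : Nat.card ↥(φ.ker.map A.subtype) = Nat.card ↥φ.ker :=
      Subgroup.card_map_of_injective A.subtype_injective
    have hc2 : Nat.card ↥φ.ker * φ.ker.index = Nat.card ↥A := Subgroup.card_mul_index _
    have hc3 : φ.ker.index = 2 := by
      rw [Subgroup.index_ker, MonoidHom.range_eq_top.mpr hsurj, Subgroup.card_top,
        t75_kerf_card_mult_zmod2]
    rw [hc1, ← hc2, hc3, mul_comm]

end Cfsg.Agent.Helper16.T75
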