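import Mathlib
import Cfsg.Agent.Lib.Helper16.T74Defs
import Cfsg.Agent.Lib.Helper16.T75Defs
import Cfsg.Agent.Lib.Helper7.PLocal2

/-!
# S3175 piece T75-AXB: `odd_centralizes`
-/

namespace Cfsg.Agent.Helper16.T75

open scoped commutatorElement
open Subgroup

theorem t75_axb_le_normalizer {G : Type*} [Group G] {TG WG Z1 Z2 Z3 Z4 : Subgroup G}
    (S : GSetting TG WG Z1 Z2 Z3 Z4) (g : G) (hg : g ∈ normalizer (TG : Set G)) :
    g ∈ normalizer (WG : Set G) := by
  rw [Subgroup.mem_normalizer_iff]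
  intro x
  constructor
  · exact S.nW g hg x
  · intro hx
    have := S.nW g⁻¹ (Subgroup.inv_mem _ hg) _ hx
    have e : g⁻¹ * (g * x * g⁻¹) * g⁻¹⁻¹ = x := by group
    rwa [e] at this

/-- T75-AXB -/
theorem odd_centralizes {G : Type*} [Group G] [Finite G] {TG WG Z1 Z2 Z3 Z4 : Subgroup G}
    (S : GSetting TG WG Z1 Z2 Z3 Z4) (h : G) (hN : h ∈ normalizer (TG : Set G))
    (hodd : Odd (orderOf h)) (hZ4 : ∀ x ∈ Z4, h * x * h⁻¹ = x)
    (hlift : ∀ t ∈ TG, ∃ c ∈ TG ⊓ centralizer ((zpowers h : Subgroup G) : Set G), t⁻¹ * c ∈ WG)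
    (hCWB : WG ⊓ centralizer ((TG ⊓ centralizer ((zpowers h : Subgroup G) : Set G) : Subgroup G) : Set G)
      ≤ Z4) :
    h ∈ centralizer (TG : Set G) := by
  haveI : Fact (Nat.Prime 2) := ⟨Nat.prime_two⟩
  set B : Subgroup G := TG ⊓ centralizer ((zpowers h : Subgroup G) : Set G) with hB
  have hBT : B ≤ TG := inf_le_left
  have hcommB : ∀ b ∈ B, b * h = h * b := by
    intro b hb
    have hb2 : b ∈ centralizer ((zpowers h : Subgroup G) : Set G) := hb.2
    rw [Subgroup.mem_centralizer_iff] at hb2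
    exact (hb2 h (Subgroup.mem_zpowers h)).symm
  have hQ : IsPGroup 2 ↥WG := S.pT.to_le S.hWT
  have hP : IsPGroup 2 ↥B := S.pT.to_le hBT
  have hPQ : B ≤ normalizer (WG : Set G) := by
    intro b hb
    exact t75_axb_le_normalizer S b (Subgroup.le_normalizer (hBT hb))
  have haQ : h ∈ normalizer (WG : Set G) := t75_axb_le_normalizer S h hN
  have hcop : (orderOf h).Coprime 2 := hodd.coprime_two_right
  have haP : h ∈ centralizer (B : Set G) := by
    rw [Subgroup.mem_centralizer_iff]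
    intro b hb
    exact hcommB b hb
  have haC : h ∈ centralizer ((WG ⊓ centralizer (B : Set G) : Subgroup G) : Set G) := by
    rw [Subgroup.mem_centralizer_iff]
    intro x hx
    have hx4 : x ∈ Z4 := hCWB hx
    have := hZ4 x hx4
    calc x * h = (h * x * h⁻¹) * h := by rw [this]
      _ = h * x := by group
  have hW : h ∈ centralizer (WG : Set G) :=
    Cfsg.Agent.Helper7.thompson_AxB_element 2 WG B hQ hP hPQ h haQ hcop haP haC
  rw [Subgroup.mem_centralizer_iff] at hW ⊢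
  intro t ht
  obtain ⟨c, hc, hn⟩ := hlift t ht
  have h1 := hcommB c hc
  have h2 := hW _ hn
  -- t = c * (t⁻¹ * c)⁻¹
  have e : t = c * (t⁻¹ * c)⁻¹ := by group
  have h3 : (t⁻¹ * c)⁻¹ * h = h * (t⁻¹ * c)⁻¹ := by
    have : Commute (t⁻¹ * c) h := h2
    exact this.inv_left.eq
  calc t * h = c * ((t⁻¹ * c)⁻¹ * h) := by rw [← mul_assoc, ← e]
    _ = c * (h * (t⁻¹ * c)⁻¹) := by rw [h3]
    _ = (c * h) * (t⁻¹ * c)⁻¹ := by rw [mul_assoc]
    _ = (h * c) * (t⁻¹ * c)⁻¹ := by rw [h1]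
    _ = h * (c * (t⁻¹ * c)⁻¹) := by rw [mul_assoc]
    _ = h * t := by rw [← e]

end Cfsg.Agent.Helper16.T75
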