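import Mathlib
import Cfsg.Agent.Lib.Helper16.T74Defs
import Cfsg.Agent.Lib.Helper16.T75Defs
import Cfsg.Agent.Lib.Helper7.Coprime

/-!
# T75-STEP (helper28): one index-2 step of the coprime-action chain
-/

namespace Cfsg.Agent.Helper16.T75

open scoped commutatorElement
open Subgroup

/-- T75-STEP -/
theorem centralizes_step {G : Type*} [Group G] [Finite G] (X Y : Subgroup G) (hXY : X ≤ Y)
    (hc : Nat.card ↥Y = 2 * Nat.card ↥X) (hY2 : IsPGroup 2 ↥Y) (h : G) (hodd : Odd (orderOf h))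
    (hY : ∀ y ∈ Y, h * y * h⁻¹ ∈ Y) (hX : ∀ x ∈ X, h * x * h⁻¹ = x) :
    ∀ y ∈ Y, h * y * h⁻¹ = y := by
  intro y hy
  have hidx : (X.subgroupOf Y).index = 2 := by
    have h1 := Subgroup.card_mul_index (X.subgroupOf Y)
    rw [Nat.card_congr (Subgroup.subgroupOfEquivOfLe hXY).toEquiv, hc] at h1
    have hpos : 0 < Nat.card ↥X := Nat.card_pos
    have h2 : Nat.card ↥X * (X.subgroupOf Y).index = Nat.card ↥X * 2 := by rw [h1]; ring
    exact Nat.eq_of_mul_eq_mul_left hpos h2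
  have hiff : (y⁻¹ ∈ X ↔ h * y * h⁻¹ ∈ X) := by
    rw [inv_mem_iff]
    constructor
    · intro hyX
      rw [hX y hyX]
      exact hyX
    · intro hyX
      have h3 := hX _ hyX
      have e : h * y * h⁻¹ = y := mul_left_cancel (mul_right_cancel h3)
      rw [← e]
      exact hyX
  have hk : y⁻¹ * (h * y * h⁻¹) ∈ X := by
    have h4 := Subgroup.mul_mem_iff_of_index_two hidx (a := (⟨y⁻¹, Y.inv_mem hy⟩ : ↥Y))
      (b := (⟨h * y * h⁻¹, hY y hy⟩ : ↥Y))
    rw [Subgroup.mem_subgroupOf, Subgroup.mem_subgroupOf, Subgroup.mem_subgroupOf] at h4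
    exact h4.2 hiff
  have hkY : y⁻¹ * (h * y * h⁻¹) ∈ Y := hXY hk
  apply Cfsg.Agent.Helper7.conj_eq_self_of_coprime h y (isOfFinOrder_of_finite h) (hX _ hk)
  obtain ⟨n, hn⟩ := hY2 ⟨_, hkY⟩
  have hn' : (y⁻¹ * (h * y * h⁻¹)) ^ (2 ^ n) = 1 := by
    have := congrArg (Subtype.val) hn
    simpa using this
  obtain ⟨m, -, hm⟩ := (Nat.dvd_prime_pow Nat.prime_two).1 (orderOf_dvd_of_pow_eq_one hn')
  rw [hm]
  exact Nat.Coprime.pow_right m hodd.coprime_two_right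

end Cfsg.Agent.Helper16.T75
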