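import Mathlib
import Cfsg.Agent.Lib.Helper16.T74Defs
import Cfsg.Agent.Lib.Helper16.T75Defs
import Cfsg.Agent.Lib.T75.T75STEP

/-!
# T75-CHAIN (helper28): an odd element of `N_G(TG)` centralizes `Z4`
-/

namespace Cfsg.Agent.Helper16.T75

open scoped commutatorElement
open Subgroup

/-- T75-CHAIN -/
theorem centralizes_Z4 {G : Type*} [Group G] [Finite G] {TG WG Z1 Z2 Z3 Z4 : Subgroup G}
    (S : GSetting TG WG Z1 Z2 Z3 Z4) (h : G) (hN : h ∈ normalizer (TG : Set G))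
    (hodd : Odd (orderOf h)) : ∀ x ∈ Z4, h * x * h⁻¹ = x := by
  have p1 : IsPGroup 2 ↥Z1 := IsPGroup.of_card (n := 1) (by rw [S.c1]; norm_num)
  have p2 : IsPGroup 2 ↥Z2 := IsPGroup.of_card (n := 2) (by rw [S.c2]; norm_num)
  have p3 : IsPGroup 2 ↥Z3 := IsPGroup.of_card (n := 3) (by rw [S.c3]; norm_num)
  have p4 : IsPGroup 2 ↥Z4 := IsPGroup.of_card (n := 4) (by rw [S.c4]; norm_num)
  have s0 : ∀ x ∈ (⊥ : Subgroup G), h * x * h⁻¹ = x := by
    intro x hx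
    rw [Subgroup.mem_bot] at hx
    subst hx
    group
  have s1 := centralizes_step ⊥ Z1 bot_le (by rw [S.c1, Subgroup.card_bot]) p1 h hodd
    (S.char1 h hN) s0
  have s2 := centralizes_step Z1 Z2 S.h12 (by rw [S.c1, S.c2]) p2 h hodd (S.char2 h hN) s1
  have s3 := centralizes_step Z2 Z3 S.h23 (by rw [S.c2, S.c3]) p3 h hodd (S.char3 h hN) s2
  exact centralizes_step Z3 Z4 S.h34 (by rw [S.c3, S.c4]) p4 h hodd (S.char4 h hN) s3

end Cfsg.Agent.Helper16.T75
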