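import Mathlib
import Cfsg.Agent.Lib.Helper16.T74Defs
import Cfsg.Agent.Lib.Helper16.T75Defs

namespace Cfsg.Agent.Helper16.T75

open scoped commutatorElement
open Subgroup

/-- T75-CWB -/
theorem centralizer_fixed_le_Z4 {G : Type*} [Group G] [Finite G] {TG WG Z1 Z2 Z3 Z4 : Subgroup G}
    (S : GSetting TG WG Z1 Z2 Z3 Z4) (B : Subgroup G) (hBT : B ≤ TG)
    (hlift : ∀ t ∈ TG, ∃ c ∈ B, t⁻¹ * c ∈ WG) :
    WG ⊓ centralizer (B : Set G) ≤ Z4 := by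
  intro w hw
  obtain ⟨hwW, hwC⟩ := Subgroup.mem_inf.1 hw
  rw [Subgroup.mem_centralizer_iff] at hwC
  apply S.fix4 w hwW
  intro t ht
  obtain ⟨c, hcB, hn⟩ := hlift t ht
  have hcw : c * w = w * c := hwC c hcB
  have hcN : c ∈ normalizer (TG : Set G) := Subgroup.le_normalizer (hBT hcB)
  -- n = t⁻¹ c ∈ WG, so t = c n⁻¹
  have hninv : (t⁻¹ * c)⁻¹ ∈ WG := WG.inv_mem hn
  have hcomm : ⁅(t⁻¹ * c)⁻¹, w⁆ ∈ Z3 := S.comm _ hninv w hwW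
  have hconj := S.char3 c hcN _ hcomm
  have heq : c * ⁅(t⁻¹ * c)⁻¹, w⁆ * c⁻¹ = ⁅t, w⁆ := by
    rw [commutatorElement_def, commutatorElement_def]
    have hcw' : c⁻¹ * w⁻¹ = w⁻¹ * c⁻¹ := by
      rw [← mul_inv_rev, ← mul_inv_rev, hcw]
    have h1 : w⁻¹ * c⁻¹ = c⁻¹ * w⁻¹ := hcw'.symm
    simp only [mul_inv_rev, inv_inv, mul_assoc]
    rw [h1]
    simp only [← mul_assoc]
    simp
  rw [← heq]
  exact hconj

end Cfsg.Agent.Helper16.T75
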