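import Mathlib
import Cfsg.Agent.Lib.Helper16.T74Defs
import Cfsg.Agent.Lib.Helper16.T75Defs

namespace Cfsg.Agent.Helper16.T75

open scoped commutatorElement
open Subgroup

/-- T75-EQ -/
theorem eq_of_centralizes {G : Type*} [Group G] [Finite G] {TG WG Z1 Z2 Z3 Z4 : Subgroup G}
    (S : GSetting TG WG Z1 Z2 Z3 Z4) (W1 : Subgroup G) (h1 : W1 ≤ TG)
    (hc1 : Nat.card ↥W1 = 2 ^ 11) (hcen : ∀ z ∈ Z3, ∀ w ∈ W1, z * w = w * z) : W1 = WG := by
  have hle : W1 ≤ WG := by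
    intro w hw
    rw [S.hWc, Subgroup.mem_inf, Subgroup.mem_centralizer_iff]
    exact ⟨h1 hw, fun z hz => hcen z hz w hw⟩
  apply Subgroup.eq_of_le_of_card_ge hle
  rw [hc1, S.cW]

end Cfsg.Agent.Helper16.T75
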