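import Mathlib
import Cfsg.Agent.Lib.Helper16.T74Defs
import Cfsg.Agent.Lib.Helper16.T75Defs

/-!
# S3175 piece T75-GSET: `gsetting_of_setting`
(self-contained: private copies of TR1/TR2 as `t75_gset_tr1`, `t75_gset_tr2`)
-/

namespace Cfsg.Agent.Helper16.T75

open scoped commutatorElement
open Subgroup

theorem t75_gset_conj_mem {G : Type*} [Group G] (TG : Subgroup G) (g : G)
    (hg : g ∈ normalizer (TG : Set G)) (x : G) (hx : x ∈ TG) : g * x * g⁻¹ ∈ TG :=
  ((Subgroup.mem_normalizer_iff).1 hg x).1 hx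

theorem t75_gset_inv_mem {G : Type*} [Group G] (TG : Subgroup G) (g : G)
    (hg : g ∈ normalizer (TG : Set G)) : g⁻¹ ∈ normalizer (TG : Set G) :=
  Subgroup.inv_mem _ hg

/-- conjugation by an element of the normalizer, as an automorphism of `↥TG` -/
def t75_gset_aut {G : Type*} [Group G] (TG : Subgroup G) (g : G)
    (hg : g ∈ normalizer (TG : Set G)) : ↥TG ≃* ↥TG where
  toFun x := ⟨g * x.1 * g⁻¹, t75_gset_conj_mem TG g hg x.1 x.2⟩
  invFun x := ⟨g⁻¹ * x.1 * g⁻¹⁻¹,
    t75_gset_conj_mem TG g⁻¹ (t75_gset_inv_mem TG g hg) x.1 x.2⟩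
  left_inv x := by
    apply Subtype.ext
    show g⁻¹ * (g * x.1 * g⁻¹) * g⁻¹⁻¹ = x.1
    group
  right_inv x := by
    apply Subtype.ext
    show g * (g⁻¹ * x.1 * g⁻¹⁻¹) * g⁻¹ = x.1
    group
  map_mul' x y := by
    apply Subtype.ext
    show g * (x.1 * y.1) * g⁻¹ = (g * x.1 * g⁻¹) * (g * y.1 * g⁻¹)
    group

theorem t75_gset_tr1 {G : Type*} [Group G] (TG : Subgroup G) (X : Subgroup ↥TG)
    [hX : X.Characteristic] :
    ∀ g ∈ normalizer (TG : Set G), ∀ x ∈ X.map TG.subtype, g * x * g⁻¹ ∈ X.map TG.subtype := by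
  intro g hg x hx
  obtain ⟨x', hx', rfl⟩ := Subgroup.mem_map.1 hx
  have h1 : X.map (t75_gset_aut TG g hg).toMonoidHom = X :=
    (Subgroup.characteristic_iff_map_eq.1 hX) (t75_gset_aut TG g hg)
  have h2 : (t75_gset_aut TG g hg) x' ∈ X := by
    rw [← h1]
    exact Subgroup.mem_map.2 ⟨x', hx', rfl⟩
  exact Subgroup.mem_map.2 ⟨_, h2, rfl⟩

theorem t75_gset_card_map {G : Type*} [Group G] (TG : Subgroup G) (X : Subgroup ↥TG) :
    Nat.card ↥(X.map TG.subtype) = Nat.card ↥X :=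
  Subgroup.card_map_of_injective TG.subtype_injective

theorem t75_gset_tr2 {G : Type*} [Group G] [Finite G] (TG : Subgroup G) (W Z : Subgroup ↥TG)
    (hd' : ∀ U : Subgroup ↥TG, U ≤ W → Nat.card ↥W ≤ 16 * Nat.card ↥U → Z ≤ U) :
    ∀ U : Subgroup G, U ≤ W.map TG.subtype →
      Nat.card ↥(W.map TG.subtype) ≤ 16 * Nat.card ↥U → Z.map TG.subtype ≤ U := by
  intro U hUW hc
  have hUT : U ≤ TG := hUW.trans (Subgroup.map_subtype_le W)
  set U' : Subgroup ↥TG := U.comap TG.subtype with hU'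
  have hmap : U'.map TG.subtype = U := by
    rw [hU', Subgroup.map_comap_eq, Subgroup.range_subtype]
    exact inf_of_le_right hUT
  have hU'W : U' ≤ W := by
    intro u hu
    have h1 : (u : G) ∈ U := hu
    obtain ⟨w, hw, hwu⟩ := Subgroup.mem_map.1 (hUW h1)
    have : w = u := Subtype.ext hwu
    rwa [← this]
  have hcard : Nat.card ↥U' = Nat.card ↥U := by
    rw [← hmap]; exact (t75_gset_card_map TG U').symm
  have h2 : Nat.card ↥W ≤ 16 * Nat.card ↥U' := by
    rw [hcard, ← t75_gset_card_map TG W]; exact hc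
  have h3 := hd' U' hU'W h2
  rw [← hmap]
  exact Subgroup.map_mono h3

/-- T75-GSET -/
theorem gsetting_of_setting {G : Type*} [Group G] [Finite G] (TG : Subgroup G)
    (hpT : IsPGroup 2 ↥TG) (W : Subgroup ↥TG)
    (S : T74.Setting W (Subgroup.upperCentralSeries ↥TG 1) (Subgroup.upperCentralSeries ↥TG 2)
      (Subgroup.upperCentralSeries ↥TG 3))
    (h4 : Nat.card ↥(Subgroup.upperCentralSeries ↥TG 4) = 16) (hcT : Nat.card ↥TG = 2 ^ 14) :
    GSetting TG (W.map TG.subtype) ((Subgroup.upperCentralSeries ↥TG 1).map TG.subtype)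
      ((Subgroup.upperCentralSeries ↥TG 2).map TG.subtype)
      ((Subgroup.upperCentralSeries ↥TG 3).map TG.subtype)
      ((Subgroup.upperCentralSeries ↥TG 4).map TG.subtype) := by
  -- membership in the centralizer description of `W.map`
  have hWc : W.map TG.subtype
      = TG ⊓ Subgroup.centralizer
        (((Subgroup.upperCentralSeries ↥TG 3).map TG.subtype : Subgroup G) : Set G) := by
    ext x
    constructor
    · intro hx
      obtain ⟨w, hw, rfl⟩ := Subgroup.mem_map.1 hx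
      rw [Subgroup.mem_inf]
      refine ⟨w.2, ?_⟩
      rw [Subgroup.mem_centralizer_iff]
      intro z hz
      obtain ⟨z', hz', rfl⟩ := Subgroup.mem_map.1 hz
      have hw' : w ∈ Subgroup.centralizer
          ((Subgroup.upperCentralSeries ↥TG 3 : Subgroup ↥TG) : Set ↥TG) := by
        rw [← S.hWc]; exact hw
      have := (Subgroup.mem_centralizer_iff.1 hw') z' hz'
      exact congrArg Subtype.val this
    · intro hx
      obtain ⟨hxT, hxc⟩ := Subgroup.mem_inf.1 hx
      have hw' : (⟨x, hxT⟩ : ↥TG) ∈ Subgroup.centralizer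
          ((Subgroup.upperCentralSeries ↥TG 3 : Subgroup ↥TG) : Set ↥TG) := by
        rw [Subgroup.mem_centralizer_iff]
        intro z' hz'
        apply Subtype.ext
        exact (Subgroup.mem_centralizer_iff.1 hxc) z'.1 (Subgroup.mem_map.2 ⟨z', hz', rfl⟩)
      rw [← S.hWc] at hw'
      exact Subgroup.mem_map.2 ⟨⟨x, hxT⟩, hw', rfl⟩
  have hchar3 := t75_gset_tr1 TG (Subgroup.upperCentralSeries ↥TG 3)
  refine
    { pT := hpT
      h12 := Subgroup.map_mono S.h12
      h23 := Subgroup.map_mono S.h23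
      h34 := Subgroup.map_mono (Subgroup.upperCentralSeries_mono _ (by norm_num))
      h3W := Subgroup.map_mono S.h3W
      hWT := Subgroup.map_subtype_le W
      c1 := by rw [t75_gset_card_map]; exact S.c1
      c2 := by rw [t75_gset_card_map]; exact S.c2
      c3 := by rw [t75_gset_card_map]; exact S.c3
      c4 := by rw [t75_gset_card_map]; exact h4
      cW := by rw [t75_gset_card_map]; exact S.cW
      cT := hcT
      hWc := hWc
      char1 := t75_gset_tr1 TG (Subgroup.upperCentralSeries ↥TG 1)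
      char2 := t75_gset_tr1 TG (Subgroup.upperCentralSeries ↥TG 2)
      char3 := hchar3
      char4 := t75_gset_tr1 TG (Subgroup.upperCentralSeries ↥TG 4)
      nW := ?_
      fix4 := ?_
      sq := ?_
      comm := ?_
      exp3 := ?_
      hd := t75_gset_tr2 TG W (Subgroup.upperCentralSeries ↥TG 3) S.hd }
  · -- nW
    intro g hg x hx
    rw [hWc] at hx ⊢
    obtain ⟨hxT, hxc⟩ := Subgroup.mem_inf.1 hx
    rw [Subgroup.mem_inf]
    refine ⟨t75_gset_conj_mem TG g hg x hxT, ?_⟩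
    rw [Subgroup.mem_centralizer_iff]
    intro z hz
    have hz' := hchar3 g⁻¹ (t75_gset_inv_mem TG g hg) z hz
    have hcomm := (Subgroup.mem_centralizer_iff.1 hxc) _ hz'
    -- hcomm : g⁻¹ * z * g⁻¹⁻¹ * x = x * (g⁻¹ * z * g⁻¹⁻¹)
    have e1 : z * (g * x * g⁻¹) = g * ((g⁻¹ * z * g⁻¹⁻¹) * x) * g⁻¹ := by group
    have e2 : g * x * g⁻¹ * z = g * (x * (g⁻¹ * z * g⁻¹⁻¹)) * g⁻¹ := by group
    rw [e1, e2, hcomm]
  · -- fix4
    intro w hw hall
    obtain ⟨w', hw', rfl⟩ := Subgroup.mem_map.1 hw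
    refine Subgroup.mem_map.2 ⟨w', ?_, rfl⟩
    show w' ∈ Subgroup.upperCentralSeries ↥TG (3 + 1)
    rw [Subgroup.mem_upperCentralSeries_succ_iff]
    intro y
    have h1 := hall y.1 y.2
    have h2 := Subgroup.inv_mem _ h1
    obtain ⟨c, hc, hce⟩ := Subgroup.mem_map.1 h2
    have : c = w' * y * w'⁻¹ * y⁻¹ := by
      apply Subtype.ext
      have hce' : (c : G) = ⁅(y : G), (w' : G)⁆⁻¹ := hce
      rw [hce', commutatorElement_def]
      show (y.1 * w'.1 * y.1⁻¹ * w'.1⁻¹)⁻¹ = ((w' * y * w'⁻¹ * y⁻¹ : ↥TG) : G)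
      simp only [Subgroup.coe_mul, Subgroup.coe_inv]
      group
    rw [commutatorElement_def, ← this]; exact hc
  · -- sq
    intro w hw
    obtain ⟨w', hw', rfl⟩ := Subgroup.mem_map.1 hw
    exact Subgroup.mem_map.2 ⟨w' ^ 2, S.sq w' hw', by simp⟩
  · -- comm
    intro u hu v hv
    obtain ⟨u', hu', rfl⟩ := Subgroup.mem_map.1 hu
    obtain ⟨v', hv', rfl⟩ := Subgroup.mem_map.1 hv
    refine Subgroup.mem_map.2 ⟨⁅u', v'⁆, S.comm u' hu' v' hv', ?_⟩
    simp [commutatorElement_def]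
  · -- exp3
    intro z hz
    obtain ⟨z', hz', rfl⟩ := Subgroup.mem_map.1 hz
    have := S.exp3 z' hz'
    have h2 := congrArg Subtype.val this
    simpa using h2

end Cfsg.Agent.Helper16.T75
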