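import Mathlib
import Cfsg.Agent.Lib.Helper16.T74Defs
import Cfsg.Agent.Lib.Helper16.T75Defs

set_option autoImplicit false

namespace Cfsg.Agent.Helper16.T75

open scoped commutatorElement
open Subgroup

/-- T75-HYP: a proper subgroup of a group of order 8 lies in a subgroup of order 4. -/
theorem exists_hyperplane {G : Type*} [Group G] [Finite G] (Z3 X : Subgroup G)
    (c3 : Nat.card ↥Z3 = 8) (exp3 : ∀ z ∈ Z3, z ^ 2 = 1) (hX : X ≤ Z3) (hne : X ≠ Z3) :
    ∃ H : Subgroup G, X ≤ H ∧ H ≤ Z3 ∧ Nat.card ↥H = 4 := by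
  have _ := exp3
  have hp : Fact (Nat.Prime 2) := ⟨Nat.prime_two⟩
  -- the card of X is a power of two
  have hdvd : Nat.card ↥X ∣ 2 ^ 3 := by
    have h := Subgroup.card_dvd_of_le hX
    rw [c3] at h
    simpa using h
  obtain ⟨n, hn3, hn⟩ := (Nat.dvd_prime_pow Nat.prime_two).1 hdvd
  have hn2 : n ≤ 2 := by
    by_contra hcon
    have hn3' : n = 3 := by omega
    apply hne
    apply Subgroup.eq_of_le_of_card_ge hX
    rw [c3, hn, hn3']
    norm_num
  -- work inside Z3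
  have hcX : Nat.card ↥(X.subgroupOf Z3) = 2 ^ n := by
    rw [← hn]
    exact Nat.card_congr (Subgroup.subgroupOfEquivOfLe hX).toEquiv
  have hd4 : 2 ^ 2 ∣ Nat.card ↥Z3 := by
    rw [c3]; norm_num
  obtain ⟨K, hK, hXK⟩ := Sylow.exists_subgroup_card_pow_prime_le 2 hd4 (X.subgroupOf Z3) hcX hn2
  refine ⟨K.map Z3.subtype, ?_, ?_, ?_⟩
  · intro x hx
    have hx3 : x ∈ Z3 := hX hx
    have : (⟨x, hx3⟩ : ↥Z3) ∈ K := hXK (by
      rw [Subgroup.mem_subgroupOf]; exact hx)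
    exact ⟨⟨x, hx3⟩, this, rfl⟩
  · rintro _ ⟨y, _, rfl⟩
    exact y.2
  · rw [Nat.card_congr (Subgroup.equivMapOfInjective K Z3.subtype
      (Subgroup.subtype_injective Z3)).toEquiv.symm, hK]
    norm_num

end Cfsg.Agent.Helper16.T75
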