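import Mathlib
import Cfsg.Agent.Lib.Helper16.T74Defs
import Cfsg.Agent.Lib.Helper16.T75Defs

/-!
# S3175 piece T75-INTER: `|WG ⊓ W1| ≥ 2^8`
-/

namespace Cfsg.Agent.Helper16.T75

open scoped commutatorElement
open Subgroup

theorem t75_inter_card_mul_relIndex {G : Type*} [Group G] {H K : Subgroup G} (hHK : H ≤ K) :
    Nat.card H * H.relIndex K = Nat.card K := by
  have := Subgroup.relIndex_mul_relIndex ⊥ H K bot_le hHK
  rwa [Subgroup.relIndex_bot_left, Subgroup.relIndex_bot_left] at this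

/-- T75-INTER -/
theorem card_inter_ge {G : Type*} [Group G] [Finite G] {TG WG Z1 Z2 Z3 Z4 : Subgroup G}
    (S : GSetting TG WG Z1 Z2 Z3 Z4) (W1 : Subgroup G) (h1 : W1 ≤ TG)
    (hc1 : Nat.card ↥W1 = 2 ^ 11) : 2 ^ 8 ≤ Nat.card ↥(WG ⊓ W1) := by
  have e1 := t75_inter_card_mul_relIndex S.hWT
  rw [S.cW, S.cT] at e1
  have hr0 : WG.relIndex TG = 8 := by omega
  have e2 := t75_inter_card_mul_relIndex (inf_le_right : WG ⊓ W1 ≤ W1)
  rw [Subgroup.inf_relIndex_right, hc1] at e2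
  have h3 : WG.relIndex W1 ≤ WG.relIndex TG :=
    Subgroup.relIndex_le_of_le_right h1 (by rw [hr0]; norm_num)
  rw [hr0] at h3
  by_contra hlt
  have hlt' : Nat.card ↥(WG ⊓ W1) ≤ 255 := by omega
  have := Nat.mul_le_mul hlt' h3
  omega

end Cfsg.Agent.Helper16.T75
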