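import Mathlib
import Cfsg.Agent.Lib.Helper16.T74Defs
import Cfsg.Agent.Lib.Helper16.T75Defs
import Cfsg.Agent.S0022

/-!
# S3175 piece T75-LIFT: `exists_fixed_rep`
-/

namespace Cfsg.Agent.Helper16.T75

open scoped commutatorElement
open Subgroup

theorem t75_lift_le_normalizer {G : Type*} [Group G] {TG WG Z1 Z2 Z3 Z4 : Subgroup G}
    (S : GSetting TG WG Z1 Z2 Z3 Z4) (g : G) (hg : g ∈ normalizer (TG : Set G)) :
    g ∈ normalizer (WG : Set G) := by
  rw [Subgroup.mem_normalizer_iff]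
  intro x
  constructor
  · exact S.nW g hg x
  · intro hx
    have := S.nW g⁻¹ (Subgroup.inv_mem _ hg) _ hx
    have e : g⁻¹ * (g * x * g⁻¹) * g⁻¹⁻¹ = x := by group
    rwa [e] at this

/-- T75-LIFT -/
theorem exists_fixed_rep {G : Type*} [Group G] [Finite G] {TG WG Z1 Z2 Z3 Z4 : Subgroup G}
    (S : GSetting TG WG Z1 Z2 Z3 Z4) (h : G) (hN : h ∈ normalizer (TG : Set G))
    (hodd : Odd (orderOf h))
    (hTW : ∀ a ∈ zpowers h, ∀ t ∈ TG, a * t * a⁻¹ * t⁻¹ ∈ WG) :
    ∀ t ∈ TG, ∃ c ∈ TG ⊓ centralizer ((zpowers h : Subgroup G) : Set G), t⁻¹ * c ∈ WG := by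
  intro t ht
  have hAK : zpowers h ≤ normalizer (TG : Set G) := Subgroup.zpowers_le.2 hN
  have hcop : (Nat.card (zpowers h)).Coprime (Nat.card TG) := by
    rw [Nat.card_zpowers, S.cT]
    exact Nat.Coprime.pow_right 14 hodd.coprime_two_right
  have hcomm : ∀ a b : zpowers h, a * b = b * a := by
    rintro ⟨a, ha⟩ ⟨b, hb⟩
    obtain ⟨i, rfl⟩ := Subgroup.mem_zpowers_iff.1 ha
    obtain ⟨j, rfl⟩ := Subgroup.mem_zpowers_iff.1 hb
    apply Subtype.ext
    simp only [Subgroup.coe_mul]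
    rw [← zpow_add, ← zpow_add, add_comm]
  have hsolv : IsSolvable (zpowers h) := isSolvable_of_comm hcomm
  have hNnormal : TG ≤ normalizer (WG : Set G) := by
    intro g hg
    exact t75_lift_le_normalizer S g (Subgroup.le_normalizer hg)
  have hNA : zpowers h ≤ normalizer (WG : Set G) :=
    Subgroup.zpowers_le.2 (t75_lift_le_normalizer S h hN)
  exact Cfsg.Agent.S0022.result (zpowers h) TG hAK hcop (Or.inl hsolv) WG S.hWT hNnormal hNA t ht
    (fun a ha => hTW a ha t ht)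

end Cfsg.Agent.Helper16.T75
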