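import Mathlib
import Cfsg.Agent.Lib.Helper16.T74Defs
import Cfsg.Agent.Lib.Helper16.T75Defs

/-!
# T75-NEQ (core): `Z' ≠ Z3` contradicts hypothesis (d)

The two auxiliary facts T75-HYP (`exists_hyperplane`) and T75-KERF (`exists_index_two`) enter
as hypotheses; the wrapper `T75NEQ.lean` plugs in the landed pieces.
-/

namespace Cfsg.Agent.Helper16.T75

open scoped commutatorElement
open Subgroup

theorem t75_neq_core {G : Type*} [Group G] [Finite G] {TG WG Z1 Z2 Z3 Z4 : Subgroup G}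
    (hHYP : ∀ (Z3 X : Subgroup G), Nat.card ↥Z3 = 8 → (∀ z ∈ Z3, z ^ 2 = 1) → X ≤ Z3 → X ≠ Z3 →
      ∃ H : Subgroup G, X ≤ H ∧ H ≤ Z3 ∧ Nat.card ↥H = 4)
    (hKERF : ∀ (A H : Subgroup G), H ≤ A → (∀ a ∈ A, ∀ k ∈ H, a * k * a⁻¹ ∈ H) →
      (∀ a ∈ A, a ^ 2 ∈ H) → (∀ u ∈ A, ∀ v ∈ A, ⁅u, v⁆ ∈ H) → ∀ e : G, e ∈ A → e ∉ H →
      ∃ U : Subgroup G, U ≤ A ∧ e ∉ U ∧ Nat.card ↥A = 2 * Nat.card ↥U)
    (S : GSetting TG WG Z1 Z2 Z3 Z4) (W1 Z' : Subgroup G) (cZ' : Nat.card ↥Z' = 8)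
    (sq1 : ∀ w ∈ W1, w ^ 2 ∈ Z') (comm1 : ∀ u ∈ W1, ∀ v ∈ W1, ⁅u, v⁆ ∈ Z')
    (hA : 2 ^ 8 ≤ Nat.card ↥(WG ⊓ W1)) (hZ3A : Z3 ≤ WG ⊓ W1) (hne : Z' ≠ Z3) : False := by
  classical
  -- X = Z3 ⊓ Z' is a proper subgroup of Z3
  have hXle : Z3 ⊓ Z' ≤ Z3 := inf_le_left
  have hXne : Z3 ⊓ Z' ≠ Z3 := by
    intro hX
    have hle : Z3 ≤ Z' := by
      rw [← hX]; exact inf_le_right
    have heq : Z3 = Z' := by
      apply Subgroup.eq_of_le_of_card_ge hle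
      rw [S.c3, cZ']
    exact hne heq.symm
  obtain ⟨H, hXH, hHZ3, cH⟩ := hHYP Z3 (Z3 ⊓ Z') S.c3 S.exp3 hXle hXne
  have hHA : H ≤ WG ⊓ W1 := hHZ3.trans hZ3A
  -- `H` is central in `WG`
  have hHn : ∀ a ∈ WG ⊓ W1, ∀ k ∈ H, a * k * a⁻¹ ∈ H := by
    intro a ha k hk
    have haW : a ∈ TG ⊓ Subgroup.centralizer (Z3 : Set G) := by
      rw [← S.hWc]; exact ha.1
    have hc : k * a = a * k := (Subgroup.mem_centralizer_iff.1 haW.2) k (hHZ3 hk)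
    have : a * k * a⁻¹ = k := by
      rw [← hc, mul_inv_cancel_right]
    rw [this]; exact hk
  have hsq : ∀ a ∈ WG ⊓ W1, a ^ 2 ∈ H := by
    intro a ha
    exact hXH ⟨S.sq a ha.1, sq1 a ha.2⟩
  have hcomm : ∀ u ∈ WG ⊓ W1, ∀ v ∈ WG ⊓ W1, ⁅u, v⁆ ∈ H := by
    intro u hu v hv
    exact hXH ⟨S.comm u hu.1 v hv.1, comm1 u hu.2 v hv.2⟩
  -- an element of `Z3 \ H`
  have hex : ∃ e ∈ Z3, e ∉ H := by
    by_contra hcon
    push Not at hcon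
    have hle : Z3 ≤ H := fun e he => hcon e he
    have : Nat.card ↥Z3 ≤ Nat.card ↥H := Subgroup.card_le_of_le hle
    rw [S.c3, cH] at this
    omega
  obtain ⟨e, heZ3, heH⟩ := hex
  obtain ⟨U, hUA, heU, hcard⟩ := hKERF (WG ⊓ W1) H hHA hHn hsq hcomm e (hZ3A heZ3) heH
  have hUW : U ≤ WG := hUA.trans inf_le_left
  have hcardW : Nat.card ↥WG ≤ 16 * Nat.card ↥U := by
    rw [S.cW]
    omega
  exact heU (S.hd U hUW hcardW heZ3)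

end Cfsg.Agent.Helper16.T75
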