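import Mathlib
import Cfsg.Agent.Lib.Helper16.T74Defs
import Cfsg.Agent.Lib.Helper16.T75Defs
import Cfsg.Agent.Lib.T75.T75HYP
import Cfsg.Agent.Lib.T75.T75KERF
import Cfsg.Agent.Lib.T75.T75NEQCore

/-!
# T75-NEQ: `Z' ≠ Z3` contradicts hypothesis (d)  (wrapper around `t75_neq_core`)
-/

namespace Cfsg.Agent.Helper16.T75

open scoped commutatorElement
open Subgroup

/-- T75-NEQ -/
theorem false_of_Z_ne {G : Type*} [Group G] [Finite G] {TG WG Z1 Z2 Z3 Z4 : Subgroup G}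
    (S : GSetting TG WG Z1 Z2 Z3 Z4) (W1 Z' : Subgroup G) (cZ' : Nat.card ↥Z' = 8)
    (sq1 : ∀ w ∈ W1, w ^ 2 ∈ Z') (comm1 : ∀ u ∈ W1, ∀ v ∈ W1, ⁅u, v⁆ ∈ Z')
    (hA : 2 ^ 8 ≤ Nat.card ↥(WG ⊓ W1)) (hZ3A : Z3 ≤ WG ⊓ W1) (hne : Z' ≠ Z3) : False :=
  t75_neq_core (fun Z3 X c3 exp3 hX hne => exists_hyperplane Z3 X c3 exp3 hX hne)
    (fun A H hHA hHn hsq hcomm e heA heH => exists_index_two A H hHA hHn hsq hcomm e heA heH)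
    S W1 Z' cZ' sq1 comm1 hA hZ3A hne

end Cfsg.Agent.Helper16.T75
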