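import Mathlib
import Cfsg.Agent.Lib.Helper16.T74Defs
import Cfsg.Agent.Lib.Helper16.T75Defs

/-!
# S3175 piece T75-NPC (helper10): the normalizer of a Sylow 2-subgroup `T` has a normal 2-complement
when its elements of odd order centralize `T`.
-/

namespace Cfsg.Agent.Helper16.T75

open scoped commutatorElement
open Subgroup
open scoped Pointwise

/-- T75-NPC -/
theorem hasNormalPComplement_normalizer {G : Type*} [Group G] [Finite G] (T : Sylow 2 G)
    (h : ∀ x ∈ normalizer ((T : Subgroup G) : Set G), Odd (orderOf x) →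
      x ∈ centralizer ((T : Subgroup G) : Set G)) :
    ∃ (P : Sylow 2 ↥(normalizer ((T : Subgroup G) : Set G)))
      (N : Subgroup ↥(normalizer ((T : Subgroup G) : Set G))),
      N.Normal ∧ N.IsComplement' (P : Subgroup ↥(normalizer ((T : Subgroup G) : Set G))) := by
  classical
  have : Fact (Nat.Prime 2) := ⟨Nat.prime_two⟩
  have hle : (T : Subgroup G) ≤ normalizer ((T : Subgroup G) : Set G) := le_normalizer
  let P : Sylow 2 ↥(normalizer ((T : Subgroup G) : Set G)) := T.subtype hle
  have hPcoe : (P : Subgroup ↥(normalizer ((T : Subgroup G) : Set G))) =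
      (T : Subgroup G).subgroupOf (normalizer ((T : Subgroup G) : Set G)) := Sylow.coe_subtype T hle
  have hPn : (P : Subgroup ↥(normalizer ((T : Subgroup G) : Set G))).Normal := by
    rw [hPcoe]
    exact normal_in_normalizer
  obtain ⟨H, hH⟩ := Subgroup.exists_right_complement'_of_coprime
    (N := (P : Subgroup ↥(normalizer ((T : Subgroup G) : Set G)))) P.card_coprime_index
  -- elements of `H` have odd order
  have hodd : ∀ x ∈ H, Odd (orderOf x) := by
    intro x hx
    have h1 : orderOf (⟨x, hx⟩ : ↥H) ∣ Nat.card ↥H := orderOf_dvd_natCard _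
    rw [← hH.symm.index_eq_card] at h1
    have h2 : ¬ 2 ∣ (P : Subgroup ↥(normalizer ((T : Subgroup G) : Set G))).index := P.not_dvd_index
    have h3 : orderOf x = orderOf (⟨x, hx⟩ : ↥H) := (Subgroup.orderOf_mk x hx).symm
    rw [← Nat.not_even_iff_odd, even_iff_two_dvd, h3]
    exact fun h4 => h2 (h4.trans h1)
  -- elements of `H` commute with elements of `P`
  have hcomm : ∀ x ∈ H, ∀ p ∈ (P : Subgroup ↥(normalizer ((T : Subgroup G) : Set G))),
      p * x = x * p := by
    intro x hx p hp
    have h1 : Odd (orderOf (x : G)) := by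
      rw [Subgroup.orderOf_coe]
      exact hodd x hx
    have h2 := h (x : G) x.2 h1
    rw [hPcoe, mem_subgroupOf] at hp
    have h3 := (mem_centralizer_iff.1 h2) (p : G) hp
    apply Subtype.ext
    rw [Subgroup.coe_mul, Subgroup.coe_mul]
    exact h3
  refine ⟨P, H, ?_, hH.symm⟩
  constructor
  intro x hx m
  -- write `m = p * k`
  have hmem : m ∈ ((P : Subgroup ↥(normalizer ((T : Subgroup G) : Set G))) :
      Set ↥(normalizer ((T : Subgroup G) : Set G))) *
      ((H : Subgroup ↥(normalizer ((T : Subgroup G) : Set G))) :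
        Set ↥(normalizer ((T : Subgroup G) : Set G))) := by
    have := hH.mul_eq
    rw [this]
    exact Set.mem_univ m
  obtain ⟨p, hp, k, hk, rfl⟩ := Set.mem_mul.1 hmem
  have h1 : k * x * k⁻¹ ∈ H := H.mul_mem (H.mul_mem hk hx) (H.inv_mem hk)
  have h2 : p * k * x * (p * k)⁻¹ = p * (k * x * k⁻¹) * p⁻¹ := by group
  rw [h2, hcomm _ h1 p hp, mul_assoc, mul_inv_cancel, mul_one]
  exact h1

end Cfsg.Agent.Helper16.T75
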