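import Mathlib
import Cfsg.Agent.Lib.Helper16.T74Defs
import Cfsg.Agent.Lib.Helper16.T75Defs

/-!
# S3175 piece T75-TR1: the image in `G` of a characteristic subgroup of `TG` is invariant under
`N_G(TG)`
-/

namespace Cfsg.Agent.Helper16.T75

open scoped commutatorElement
open Subgroup

/-- conjugation by an element of the normalizer, as an automorphism of `↥TG` -/
def t75_tr1_conjEquiv {G : Type*} [Group G] (TG : Subgroup G) (g : G)
    (hg : g ∈ normalizer (TG : Set G)) : ↥TG ≃* ↥TG where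
  toFun x := ⟨g * x * g⁻¹, (Subgroup.mem_normalizer_iff.1 hg x).1 x.2⟩
  invFun x := ⟨g⁻¹ * x * g, by
    have h := (Subgroup.mem_normalizer_iff.1 hg (g⁻¹ * x * g)).2
    apply h
    have e : g * (g⁻¹ * (x : G) * g) * g⁻¹ = x := by group
    rw [e]
    exact x.2⟩
  left_inv x := by
    apply Subtype.ext
    show g⁻¹ * (g * (x : G) * g⁻¹) * g = x
    group
  right_inv x := by
    apply Subtype.ext
    show g * (g⁻¹ * (x : G) * g) * g⁻¹ = x
    group
  map_mul' x y := by
    apply Subtype.ext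
    show g * ((x : G) * y) * g⁻¹ = (g * x * g⁻¹) * (g * y * g⁻¹)
    group

/-- T75-TR1 -/
theorem map_char_conj_mem {G : Type*} [Group G] (TG : Subgroup G) (X : Subgroup ↥TG)
    [X.Characteristic] :
    ∀ g ∈ normalizer (TG : Set G), ∀ x ∈ X.map TG.subtype, g * x * g⁻¹ ∈ X.map TG.subtype := by
  rintro g hg x ⟨x', hx', rfl⟩
  refine ⟨t75_tr1_conjEquiv TG g hg x', ?_, rfl⟩
  have h := (inferInstance : X.Characteristic).fixed (t75_tr1_conjEquiv TG g hg)
  have hx'' : x' ∈ X.comap (t75_tr1_conjEquiv TG g hg).toMonoidHom := by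
    rw [h]; exact hx'
  exact Subgroup.mem_comap.1 hx''

end Cfsg.Agent.Helper16.T75
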