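import Mathlib
import Cfsg.Agent.Lib.Helper16.T74Defs
import Cfsg.Agent.Lib.Helper16.T75Defs

/-!
# T75-TR2 (helper22): transport of hypothesis (d) from subgroups of `↥TG` to subgroups of `G`
-/

namespace Cfsg.Agent.Helper16.T75

open scoped commutatorElement
open Subgroup

/-- T75-TR2 -/
theorem hd_to_G {G : Type*} [Group G] [Finite G] (TG : Subgroup G) (W Z : Subgroup ↥TG)
    (hd' : ∀ U : Subgroup ↥TG, U ≤ W → Nat.card ↥W ≤ 16 * Nat.card ↥U → Z ≤ U) :
    ∀ U : Subgroup G, U ≤ W.map TG.subtype →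
      Nat.card ↥(W.map TG.subtype) ≤ 16 * Nat.card ↥U → Z.map TG.subtype ≤ U := by
  intro U hUW hcard
  have hUT : U ≤ TG := hUW.trans (Subgroup.map_subtype_le W)
  have h1 : U.subgroupOf TG ≤ W := by
    intro x hx
    rw [Subgroup.mem_subgroupOf] at hx
    obtain ⟨w, hw, hwx⟩ := hUW hx
    have : w = x := Subtype.ext hwx
    rw [← this]; exact hw
  have hc1 : Nat.card ↥(W.map TG.subtype) = Nat.card ↥W :=
    Subgroup.card_map_of_injective TG.subtype_injective
  have hc2 : Nat.card ↥(U.subgroupOf TG) = Nat.card ↥U :=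
    Nat.card_congr (Subgroup.subgroupOfEquivOfLe hUT).toEquiv
  have h2 : Nat.card ↥W ≤ 16 * Nat.card ↥(U.subgroupOf TG) := by
    rw [hc2, ← hc1]; exact hcard
  have h3 := hd' (U.subgroupOf TG) h1 h2
  rintro x ⟨z, hz, rfl⟩
  have := h3 hz
  rw [Subgroup.mem_subgroupOf] at this
  exact this

end Cfsg.Agent.Helper16.T75
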