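import Mathlib
import Cfsg.Agent.Lib.Helper16.T74Defs
import Cfsg.Agent.Lib.Helper16.T75Defs

/-!
# T75-TW (helper4): `comm_mem_W` for S3175
-/

namespace Cfsg.Agent.Helper16.T75

open scoped commutatorElement
open Subgroup

/-- T75-TW -/
theorem comm_mem_W {G : Type*} [Group G] [Finite G] {TG WG Z1 Z2 Z3 Z4 : Subgroup G}
    (S : GSetting TG WG Z1 Z2 Z3 Z4) (h : G) (hN : h ∈ normalizer (TG : Set G))
    (hZ3 : ∀ x ∈ Z3, h * x * h⁻¹ = x) :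
    ∀ a ∈ zpowers h, ∀ t ∈ TG, a * t * a⁻¹ * t⁻¹ ∈ WG := by
  intro a ha t ht
  -- `a` normalizes `TG` and centralizes `Z3`
  have hhc : h ∈ centralizer (Z3 : Set G) := by
    rw [mem_centralizer_iff]
    intro x hx
    have := hZ3 x hx
    calc x * h = (h * x * h⁻¹) * h := by rw [this]
      _ = h * x := by group
  have hle : zpowers h ≤ normalizer (TG : Set G) ⊓ centralizer (Z3 : Set G) := by
    rw [zpowers_le]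
    exact ⟨hN, hhc⟩
  obtain ⟨haN, hac⟩ := Subgroup.mem_inf.1 (hle ha)
  have hac' : ∀ y ∈ Z3, a * y = y * a := by
    intro y hy
    exact ((mem_centralizer_iff.1 hac) y hy).symm
  have hT : a * t * a⁻¹ * t⁻¹ ∈ TG :=
    TG.mul_mem ((mem_normalizer_iff.1 haN t).1 ht) (TG.inv_mem ht)
  rw [S.hWc]
  refine Subgroup.mem_inf.2 ⟨hT, ?_⟩
  rw [mem_centralizer_iff]
  intro z hz
  have htN : t⁻¹ ∈ normalizer (TG : Set G) := le_normalizer (TG.inv_mem ht)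
  have hy : t⁻¹ * z * t⁻¹⁻¹ ∈ Z3 := S.char3 t⁻¹ htN z hz
  have hy' := hac' _ hy
  -- `c z = z c` with `c = a t a⁻¹ t⁻¹`
  have hz' := hac' z hz
  have e2 : a⁻¹ * (t⁻¹ * z * t⁻¹⁻¹) = (t⁻¹ * z * t⁻¹⁻¹) * a⁻¹ := by
    calc a⁻¹ * (t⁻¹ * z * t⁻¹⁻¹) = a⁻¹ * (t⁻¹ * z * t⁻¹⁻¹ * a) * a⁻¹ := by group
      _ = a⁻¹ * (a * (t⁻¹ * z * t⁻¹⁻¹)) * a⁻¹ := by rw [hy']
      _ = (t⁻¹ * z * t⁻¹⁻¹) * a⁻¹ := by group
  symm
  calc a * t * a⁻¹ * t⁻¹ * z = a * t * (a⁻¹ * (t⁻¹ * z * t⁻¹⁻¹)) * t⁻¹ := by group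
    _ = a * t * ((t⁻¹ * z * t⁻¹⁻¹) * a⁻¹) * t⁻¹ := by rw [e2]
    _ = (a * z) * t * a⁻¹ * t⁻¹ := by group
    _ = (z * a) * t * a⁻¹ * t⁻¹ := by rw [hz']
    _ = z * (a * t * a⁻¹ * t⁻¹) := by group

end Cfsg.Agent.Helper16.T75
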