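import Mathlib
import Cfsg.Agent.Lib.Helper16.T74Defs
import Cfsg.Agent.Lib.Helper16.T75Defs

/-!
# S3175 piece T75-CONJ: transport of the `W`-facts to `g W g⁻¹`
-/

namespace Cfsg.Agent.Helper16.T75

open scoped commutatorElement
open Subgroup

/-- T75-CONJ -/
theorem conj_facts {G : Type*} [Group G] [Finite G] {TG WG Z1 Z2 Z3 Z4 : Subgroup G}
    (S : GSetting TG WG Z1 Z2 Z3 Z4) (g : G) :
    Nat.card ↥(WG.map (MulAut.conj g).toMonoidHom) = 2 ^ 11 ∧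
      Nat.card ↥(Z3.map (MulAut.conj g).toMonoidHom) = 8 ∧
      (∀ w ∈ WG.map (MulAut.conj g).toMonoidHom, w ^ 2 ∈ Z3.map (MulAut.conj g).toMonoidHom) ∧
      (∀ u ∈ WG.map (MulAut.conj g).toMonoidHom, ∀ v ∈ WG.map (MulAut.conj g).toMonoidHom,
        ⁅u, v⁆ ∈ Z3.map (MulAut.conj g).toMonoidHom) ∧
      (∀ z ∈ Z3.map (MulAut.conj g).toMonoidHom, ∀ w ∈ WG.map (MulAut.conj g).toMonoidHom,
        z * w = w * z) := by
  have hinj : Function.Injective (MulAut.conj g).toMonoidHom := (MulAut.conj g).injective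
  refine ⟨?_, ?_, ?_, ?_, ?_⟩
  · rw [Subgroup.card_map_of_injective hinj, S.cW]
  · rw [Subgroup.card_map_of_injective hinj, S.c3]
  · rintro w ⟨w', hw', rfl⟩
    exact ⟨w' ^ 2, S.sq w' hw', map_pow _ _ _⟩
  · rintro u ⟨u', hu', rfl⟩ v ⟨v', hv', rfl⟩
    exact ⟨⁅u', v'⁆, S.comm u' hu' v' hv', map_commutatorElement _ _ _⟩
  · rintro z ⟨z', hz', rfl⟩ w ⟨w', hw', rfl⟩
    have hw'' : w' ∈ TG ⊓ Subgroup.centralizer (Z3 : Set G) := by
      rw [← S.hWc]; exact hw'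
    have hc := (Subgroup.mem_centralizer_iff.1 (Subgroup.mem_inf.1 hw'').2) z' hz'
    rw [← map_mul, ← map_mul, hc]

end Cfsg.Agent.Helper16.T75
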